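import Cfsg.Agent.U62Rec.Data.RedBM
import Cfsg.Agent.U62Rec.Facts

/-!
# Checks of a configuration (RedBM)
-/

set_option autoImplicit false
set_option maxRecDepth 65536
set_option maxHeartbeats 4000000
set_option Elab.async false

namespace Cfsg.Agent.U62Rec.RedBM

theorem in0 : caseOK gens ginv lin vt0 ic0 = true := by decide +kernel

theorem in1 : caseOK gens ginv lin vt1 ic1 = true := by decide +kernel

theorem in2 : caseOK gens ginv lin vt2 ic2 = true := by decide +kernel

def cover : List (InCase × List (ℕ × ℕ)) := [(ic0, vt0.ts), (ic1, vt1.ts), (ic2, vt2.ts)]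

theorem cover_ok : coverOK lin cover = true := by decide +kernel

theorem out0 : outOK gens ginv lin ct0 oc0 row0 = true := by decide +kernel

theorem out1 : outOK gens ginv lin ct1 oc1 row1 = true := by decide +kernel

theorem out2 : outOK gens ginv lin ct2 oc2 row2 = true := by decide +kernel

theorem out3 : outOK gens ginv lin ct3 oc3 row3 = true := by decide +kernel

theorem vt0_ok : vt0.ok gens ginv = true := by decide +kernel

theorem vt0_fix : vt0.stabOK 5 = true := by decide +kernel

theorem vt0_odd : (vt0.ts.map fun p => app p.1 5).toFinset.card % 2 = 1 := by decide +kernel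

theorem wit_ok : witOK vt0 [(oc0, ct0), (oc1, ct1), (oc2, ct2), (oc3, ct3)] vt0.S wit = true := by decide +kernel

theorem facts : Facts ⟨gens, lin⟩ [(oc0, row0), (oc1, row1), (oc2, row2), (oc3, row3)] where
  covered := by
    refine covered_of_ok cover_ok fun c hc => ?_
    simp only [cover, List.mem_cons, List.not_mem_nil, or_false] at hc
    rcases hc with rfl | rfl | rfl
    · exact ⟨caseHyp_of_ok in0, fun p hp =>
        ((Tab.spec_of_ok (caseOK_tab in0)).ts_gen p hp).2.1⟩
    · exact ⟨caseHyp_of_ok in1, fun p hp =>
        ((Tab.spec_of_ok (caseOK_tab in1)).ts_gen p hp).2.1⟩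
    · exact ⟨caseHyp_of_ok in2, fun p hp =>
        ((Tab.spec_of_ok (caseOK_tab in2)).ts_gen p hp).2.1⟩
  hyp := by
    intro o ho
    fin_cases ho
    · exact outHyp_of_ok out0
    · exact outHyp_of_ok out1
    · exact outHyp_of_ok out2
    · exact outHyp_of_ok out3
  cls := cls_of_classified vt0_ok vt0_fix vt0_odd wit_ok
    (by intro ct hct; fin_cases hct
        · exact outOK_tab out0
        · exact outOK_tab out1
        · exact outOK_tab out2
        · exact outOK_tab out3)
    (outs := [(oc0, row0), (oc1, row1), (oc2, row2), (oc3, row3)])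
    (by intro ct hct; fin_cases hct
        · exact ⟨row0, by simp⟩
        · exact ⟨row1, by simp⟩
        · exact ⟨row2, by simp⟩
        · exact ⟨row3, by simp⟩)

end Cfsg.Agent.U62Rec.RedBM
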